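import Mathlib
import Cfsg.Agent.Lib.UniqueOrderP

/-! Elements of order `p` in the second centre of a `p`-group, `p` odd. -/

set_option autoImplicit false

namespace CfsgLib.RankTwo

open Subgroup
open scoped commutatorElement

variable {W : Type*} [Group W] {p : ℕ}

theorem comm_right_mul {x y w : W} (hy : ⁅w, y⁆ ∈ center W) : ⁅w, x * y⁆ = ⁅w, x⁆ * ⁅w, y⁆ := by
  have h : ⁅w, x * y⁆ = ⁅w, x⁆ * (x * ⁅w, y⁆ * x⁻¹) := by
    simp only [commutatorElement_def]; group
  rw [h, mem_center_iff.mp hy x, mul_inv_cancel_right]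

theorem pow_comm_eq {x y c : W} (hc : c ∈ center W) (h : y * x = c * x * y) (n : ℕ) :
    y ^ n * x = c ^ n * x * y ^ n := by
  induction n with
  | zero => simp
  | succ n ih =>
    have hcn : ∀ g : W, g * c ^ n = c ^ n * g := fun g => mem_center_iff.mp (pow_mem hc n) g
    calc y ^ (n + 1) * x = y * (y ^ n * x) := by rw [pow_succ']; group
      _ = (y * c ^ n) * x * y ^ n := by rw [ih]; group
      _ = c ^ n * (y * x) * y ^ n := by rw [hcn]; group
      _ = c ^ (n + 1) * x * y ^ (n + 1) := by rw [h, pow_succ, pow_succ']; group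

theorem mul_pow_central {x y c : W} (hc : c ∈ center W) (h : y * x = c * x * y) (n : ℕ) :
    (x * y) ^ n = c ^ n.choose 2 * x ^ n * y ^ n := by
  induction n with
  | zero => simp
  | succ n ih =>
    have hcn : ∀ g : W, g * c ^ n = c ^ n * g := fun g => mem_center_iff.mp (pow_mem hc n) g
    rw [pow_succ, ih, Nat.choose_succ_succ, Nat.choose_one_right]
    calc c ^ n.choose 2 * x ^ n * y ^ n * (x * y)
        = c ^ n.choose 2 * (x ^ n * (y ^ n * x)) * y := by group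
      _ = c ^ n.choose 2 * ((x ^ n * c ^ n) * x * y ^ n) * y := by rw [pow_comm_eq hc h n]; group
      _ = c ^ (n + n.choose 2) * x ^ (n + 1) * y ^ (n + 1) := by
          rw [hcn, pow_succ, pow_succ, add_comm n, pow_add]; group

variable (W) in
/-- Elements of exponent `p` all whose commutators are central. -/
def omegaTwo (p : ℕ) [hp : Fact p.Prime] (hp2 : p ≠ 2) : Subgroup W where
  carrier := {x | x ^ p = 1 ∧ ∀ w, ⁅w, x⁆ ∈ center W}
  one_mem' := ⟨one_pow _, fun w => by simp⟩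
  mul_mem' := by
    rintro x y ⟨hx, hx'⟩ ⟨hy, hy'⟩
    refine ⟨?_, fun w => by rw [comm_right_mul (hy' w)]; exact mul_mem (hx' w) (hy' w)⟩
    set c := ⁅y, x⁆ with hc
    have hcZ : c ∈ center W := hx' y
    have h : y * x = c * x * y := by rw [hc, commutatorElement_def]; group
    have hcp : c ^ p = 1 := by
      have e : y * x * y⁻¹ = c * x := by rw [hc, commutatorElement_def]; group
      have e2 : (c * x) ^ p = 1 := by rw [← e, conj_pow, hx, mul_one, mul_inv_cancel]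
      rwa [Commute.mul_pow (mem_center_iff.mp hcZ x).symm, hx, mul_one] at e2
    obtain ⟨k, hk⟩ := hp.out.dvd_choose_self (k := 2) (by norm_num)
      (lt_of_le_of_ne hp.out.two_le (Ne.symm hp2))
    rw [mul_pow_central hcZ h, hk, pow_mul, hcp, one_pow, hx, hy, one_mul, one_mul]
  inv_mem' := by
    rintro x ⟨hx, hx'⟩
    refine ⟨by rw [inv_pow, hx, inv_one], fun w => ?_⟩
    have h : ⁅w, x⁻¹⁆ = x⁻¹ * ⁅w, x⁆⁻¹ * x := by simp only [commutatorElement_def]; group
    rw [h, mul_assoc, ← mem_center_iff.mp (inv_mem (hx' w)) x, inv_mul_cancel_left]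
    exact inv_mem (hx' w)

theorem mem_omegaTwo [Fact p.Prime] {hp2 : p ≠ 2} {x : W} :
    x ∈ omegaTwo W p hp2 ↔ x ^ p = 1 ∧ ∀ w : W, ⁅w, x⁆ ∈ center W := Iff.rfl

theorem mem_center_map {e : MulAut W} {c : W} (hc : c ∈ center W) : e c ∈ center W := by
  rw [mem_center_iff] at hc ⊢
  intro g
  obtain ⟨g, rfl⟩ := e.surjective g
  rw [← map_mul, hc g, map_mul]

theorem omegaTwo_map [Fact p.Prime] {hp2 : p ≠ 2} (e : MulAut W) {x : W}
    (hx : x ∈ omegaTwo W p hp2) : e x ∈ omegaTwo W p hp2 := by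
  refine ⟨by rw [← map_pow, hx.1, map_one], fun w => ?_⟩
  obtain ⟨w, rfl⟩ := e.surjective w
  rw [← map_commutatorElement]
  exact mem_center_map (hx.2 w)

theorem geom_mod (r m : ℤ) (p : ℤ) (hr : r = 1 + p * m) (n : ℕ) :
    (∃ q, r ^ n = 1 + n * p * m + p ^ 2 * q) ∧
      ∃ q, ∑ j ∈ Finset.range n, r ^ j = n + p * m * (n.choose 2 : ℕ) + p ^ 2 * q := by
  induction n with
  | zero => exact ⟨⟨0, by simp⟩, ⟨0, by simp⟩⟩
  | succ n ih =>
    obtain ⟨⟨q, hq⟩, ⟨s, hs⟩⟩ := ih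
    refine ⟨⟨q + n * m ^ 2 + p * q * m, ?_⟩, ⟨s + q, ?_⟩⟩
    · rw [pow_succ, hq, hr]; push_cast; ring
    · rw [Finset.sum_range_succ, hs, hq, Nat.choose_succ_succ, Nat.choose_one_right]
      push_cast; ring

theorem exists_noncyclic_omegaTwo [Finite W] [hp : Fact p.Prime] (hp2 : p ≠ 2) (hW : IsPGroup p W)
    (hnc : ¬ IsCyclic W) :
    ∃ x ∈ omegaTwo W p hp2, ∃ y ∈ omegaTwo W p hp2, orderOf x = p ∧ x ∈ center W ∧ y ∉ zpowers x := by
  haveI : Nontrivial W := by
    by_contra h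
    rw [not_nontrivial_iff_subsingleton] at h
    exact hnc inferInstance
  haveI := hW.center_nontrivial
  obtain ⟨z₀, hz₀⟩ : ∃ z : center W, orderOf z = p := by
    obtain ⟨k, hk⟩ := IsPGroup.iff_card.mp (hW.to_subgroup (center W))
    refine exists_prime_orderOf_dvd_card' p ?_
    rw [hk]
    exact dvd_pow_self p (fun e => by simpa [hk, e] using Finite.one_lt_card (α := center W))
  set z : W := (z₀ : W) with hz
  have hzp : orderOf z = p := by rw [hz, Subgroup.orderOf_coe, hz₀]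
  have hzC : ∀ g ∈ center W, g ^ p = 1 → g ∈ omegaTwo W p hp2 := fun g hg hgp =>
    ⟨hgp, fun w => by
      rw [show ⁅(w : W), (g : W)⁆ = (1 : W) from commutatorElement_eq_one_iff_mul_comm.mpr (mem_center_iff.mp hg w)]
      exact one_mem _⟩
  have hzo : z ∈ omegaTwo W p hp2 := hzC z z₀.2 (hzp ▸ pow_orderOf_eq_one z)
  by_cases hcen : ∃ y ∈ center W, y ^ p = 1 ∧ y ∉ zpowers z
  · obtain ⟨y, hy, hyp, hyz⟩ := hcen
    exact ⟨z, hzo, y, hzC y hy hyp, hzp, z₀.2, hyz⟩
  push Not at hcen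
  classical
  have hnu : ¬ CfsgLib.UniqueOrderP.Uniq p W := fun hu =>
    (CfsgLib.UniqueOrderP.cyclic_or_quaternion hW hu).elim hnc fun h => hp2 h.1
  have hex : ∃ i, ∃ y : W, y ∈ Subgroup.upperCentralSeries W i ∧ y ^ p = 1 ∧ y ∉ zpowers z := by
    haveI := hW.isNilpotent
    obtain ⟨n, hn⟩ := Group.IsNilpotent.nilpotent' (G := W)
    by_contra hno
    push Not at hno
    refine hnu fun a b ha hb => ?_
    have hA : a ∈ zpowers z := hno n a (hn ▸ mem_top a) (ha ▸ pow_orderOf_eq_one a)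
    have hB : b ∈ zpowers z := hno n b (hn ▸ mem_top b) (hb ▸ pow_orderOf_eq_one b)
    have e : zpowers a = zpowers z :=
      Subgroup.eq_of_le_of_card_ge (zpowers_le.mpr hA) (by rw [Nat.card_zpowers, Nat.card_zpowers, ha, hzp])
    rwa [e]
  obtain ⟨y, hyi, hyp, hyz⟩ := Nat.find_spec hex
  rcases hj : Nat.find hex with _ | j
  · rw [hj, Subgroup.upperCentralSeries_zero, mem_bot] at hyi
    exact absurd (hyi ▸ one_mem _) hyz
  rw [hj] at hyi
  set N := Subgroup.upperCentralSeries W j with hN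
  have hNz : ∀ g ∈ N, g ^ p = 1 → g ∈ zpowers z := by
    intro g hg hgp
    by_contra hgz
    exact Nat.find_min hex (hj ▸ Nat.lt_succ_self j) ⟨g, hg, hgp, hgz⟩
  refine ⟨z, hzo, y, ⟨hyp, fun w => ?_⟩, hzp, z₀.2, hyz⟩
  have hc : ⁅w, y⁆ ∈ N := by
    rw [← commutatorElement_inv y w]
    exact inv_mem (Subgroup.mem_upperCentralSeries_succ_iff.mp hyi w)
  have hNu : CfsgLib.UniqueOrderP.Uniq p N := by
    intro a b ha hb
    have hA : (a : W) ∈ zpowers z := hNz a a.2 (by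
      rw [← Subgroup.coe_pow, ← ha, pow_orderOf_eq_one, Subgroup.coe_one])
    have hB : (b : W) ∈ zpowers z := hNz b b.2 (by
      rw [← Subgroup.coe_pow, ← hb, pow_orderOf_eq_one, Subgroup.coe_one])
    have e : zpowers (a : W) = zpowers z :=
      Subgroup.eq_of_le_of_card_ge (zpowers_le.mpr hA)
        (by rw [Nat.card_zpowers, Nat.card_zpowers, hzp, Subgroup.orderOf_coe, ha])
    rw [← e] at hB
    obtain ⟨k, hk⟩ := hB
    exact ⟨k, Subtype.ext (by simpa using hk)⟩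
  have hNp : IsPGroup p N := hW.to_subgroup N
  haveI : IsCyclic N := (CfsgLib.UniqueOrderP.cyclic_or_quaternion hNp hNu).elim id fun h => absurd h.1 hp2
  obtain ⟨a₀, ha₀⟩ := IsCyclic.exists_generator (α := N)
  set a : W := (a₀ : W) with ha
  have hgen : ∀ g ∈ N, ∃ i : ℤ, a ^ i = g := by
    intro g hg
    obtain ⟨i, hi⟩ := ha₀ ⟨g, hg⟩
    exact ⟨i, by simpa [ha] using congrArg Subtype.val hi⟩
  obtain ⟨i, hi⟩ := hgen _ hc
  by_cases ha1 : a = 1
  · rw [← hi, ha1, one_zpow]; exact one_mem _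
  haveI : N.Normal := by rw [hN]; infer_instance
  obtain ⟨r, hr⟩ := hgen _ ((inferInstance : N.Normal).conj_mem a a₀.2 y)
  have hr' : y * a * y⁻¹ = a ^ r := hr.symm
  have hiter : ∀ n : ℕ, y ^ n * a * (y ^ n)⁻¹ = a ^ (r ^ n) := by
    intro n
    induction n with
    | zero => simp
    | succ n ih =>
      calc y ^ (n + 1) * a * (y ^ (n + 1))⁻¹ = y * (y ^ n * a * (y ^ n)⁻¹) * y⁻¹ := by
            rw [pow_succ']; group
        _ = a ^ (r ^ (n + 1)) := by rw [ih, ← conj_zpow, hr', ← zpow_mul, pow_succ']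
  have hrp : (a : W) ^ (r ^ p - 1) = 1 := by
    have := hiter p
    rw [hyp, one_mul, inv_one, mul_one] at this
    rw [zpow_sub, ← this, zpow_one, mul_inv_cancel]
  obtain ⟨k, hk⟩ := IsPGroup.iff_orderOf.mp hW a
  have hpa : (p : ℤ) ∣ r ^ p - 1 := by
    have h1 : ((orderOf a : ℕ) : ℤ) ∣ r ^ p - 1 := orderOf_dvd_iff_zpow_eq_one.mpr hrp
    refine dvd_trans (Int.natCast_dvd_natCast.mpr ?_) h1
    rw [hk]
    exact dvd_pow_self p (fun e => ha1 (orderOf_eq_one_iff.mp (by rw [hk, e, pow_zero])))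
  have hr1 : (p : ℤ) ∣ r - 1 := by
    rw [← ZMod.intCast_zmod_eq_zero_iff_dvd] at hpa ⊢
    push_cast at hpa ⊢
    rwa [ZMod.pow_card] at hpa
  obtain ⟨m, hm⟩ := hr1
  obtain ⟨-, q, hq⟩ := geom_mod r m p (by linear_combination hm) p
  obtain ⟨c2, hc2⟩ := hp.out.dvd_choose_self (k := 2) (by norm_num)
    (lt_of_le_of_ne hp.out.two_le (Ne.symm hp2))
  set u : ℤ := 1 + p * (m * c2 + q) with hu
  have hS : ∑ j ∈ Finset.range p, r ^ j = (p : ℤ) * u := by
    rw [hq, hc2, hu]; push_cast; ring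
  have hconj : (a ^ i * y) ^ p = 1 := by
    have e : a ^ i * y = w * y * w⁻¹ := by rw [hi, commutatorElement_def]; group
    rw [e, conj_pow, hyp, mul_one, mul_inv_cancel]
  rw [CfsgLib.UniqueOrderP.mul_pow_eq hr', hyp, mul_one, hS] at hconj
  have hip : a ^ (i * p) = 1 := by
    have h1 : ((orderOf a : ℕ) : ℤ) ∣ i * p * u :=
      orderOf_dvd_iff_zpow_eq_one.mpr (by rw [mul_assoc]; exact hconj)
    rw [← orderOf_dvd_iff_zpow_eq_one]
    refine IsCoprime.dvd_of_dvd_mul_right ?_ h1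
    rw [hk, Nat.cast_pow]
    refine IsCoprime.pow_left ⟨-(m * c2 + q), 1, ?_⟩
    rw [hu]; ring
  have : (⁅w, y⁆ : W) ∈ zpowers z := hNz _ hc (by rw [← hi, ← zpow_natCast, ← zpow_mul, hip])
  exact (zpowers_le.mpr z₀.2) this

end CfsgLib.RankTwo
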